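import Cfsg.Agent.TAB.Glue.Main
import Cfsg.Agent.TAB.Co.Fin

/-!
# The glue lemma with local certificates (helper12, TAB)

* `virt_combs` : combinations of rows are virtual, if each section has a certificate for the rows or for the
  combinations;
* `virt_ix`, `virt_all` : reading the result of `glue`.
-/

set_option autoImplicit false

namespace Cfsg.Agent.TAB.Glue

open Cfsg Cfsg.Agent.TAB.Eng Cfsg.Agent.TAB.Co

universe u

/-- evaluate a list of lists before passing it on -/
noncomputable def frcM {β : Type} (l : List (List ℤ)) : (List (List ℤ) → β) → β :=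
  List.rec (fun k => k []) (fun a _ ih k => frcLZ a fun a' => ih fun l' => k (a' :: l')) l

theorem frcM_eq {β : Type} (l : List (List ℤ)) (k : List (List ℤ) → β) : frcM l k = k l := by
  induction l generalizing k with
  | nil => rfl
  | cons a l ih => exact (frcLZ_eq a fun a' => frcM l fun l' => k (a' :: l')).trans (ih fun l' => k (a :: l'))

/-- the check of certificates for the combinations `X` of the rows -/
noncomputable def chkX (D : Dat) (seeds rows : List (List ℤ)) (X : List (List (ℤ × ℕ))) (y : ℕ × ℕ × List Cert) :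
    Bool :=
  frcM (X.map (comb rows)) fun V => chkP D y.1 y.2.1 (y.1 ^ y.2.1) seeds y.2.2 V

variable {G : Type u} [Group G] {D : Dat} {T : TD G D}

theorem virt_combs [Finite G] (hN : Nat.card G = D.N) {PL : List (ℕ × ℕ × List ℕ)} (hP : okPrimes D PL = true)
    {CL0 CL1 : List (ℕ × ℕ × List Cert)} {rows seeds : List (List ℤ)} {X : List (List (ℤ × ℕ))}
    (h0 : ∀ l s, hasC CL0 l s = true → ∀ r ∈ rows, Good T l s (nth r)) (hsd : ∀ sd ∈ seeds, Virt T (nth sd))
    (h1 : ∀ y ∈ CL1, chkX D seeds rows X y = true)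
    (hA : (PL.all fun x => x.2.2.all fun t => hasC CL0 x.1 t || hasC CL1 x.1 t) = true) :
    ∀ x ∈ X, Virt T (nth (comb rows x)) := fun x hx =>
  virt_of_good hN hP fun y hy t ht => by
    have h2 := List.all_eq_true.1 (List.all_eq_true.1 hA y hy) t ht
    rw [Bool.or_eq_true] at h2
    rcases h2 with h2 | h2
    · exact Good.comb (h0 _ _ h2) x
    · exact good_of_certs hN hsd (fun z hz => (frcM_eq _ _).symm.trans (h1 z hz)) h2 _ (List.mem_map_of_mem hx)

/-- the indices are targets -/
def okIx (lv : List Lv) (ix : List ℕ) : Bool := ix.all fun j => lv.any fun l => l.tg && l.j == j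

theorem virt_ix {rows : List (List ℤ)} {lv : List Lv} (h : ∀ l ∈ lv, l.tg = true → Virt T (nth (ntd rows [] l.j)))
    {ix : List ℕ} (hc : okIx lv ix = true) : ∀ v ∈ ix.map (ntd rows []), Virt T (nth v) := by
  intro v hv
  obtain ⟨j, hj, rfl⟩ := List.mem_map.1 hv
  obtain ⟨l, hl, h1⟩ := List.any_eq_true.1 (List.all_eq_true.1 hc j hj)
  rw [Bool.and_eq_true, beq_iff_eq] at h1
  exact h1.2 ▸ h l hl h1.1

theorem virt_all {rows : List (List ℤ)} {lv : List Lv} (h : ∀ l ∈ lv, l.tg = true → Virt T (nth (ntd rows [] l.j)))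
    (hc : okIx lv (List.range rows.length) = true) : ∀ v ∈ rows, Virt T (nth v) := by
  intro v hv
  obtain ⟨i, hi, rfl⟩ := List.getElem_of_mem hv
  rw [← ntd_eq rows [] hi]
  exact virt_ix h hc _ (List.mem_map_of_mem (List.mem_range.2 hi))

end Cfsg.Agent.TAB.Glue
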