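import Cfsg.Agent.TAB.Eng.Gram

/-!
# The glue lemma : the search (helper12, TAB)

Integers `y j` satisfy triangular congruences `d * y j + ∑ a * y i ≡ 0` modulo `e` and `∑ w * y j ^ 2 ≤ bud`.

* `dfs` : the search over the residues of the `y j`; `dfs_sound`;
* `lft` : the search over the integers with given residues; `lft_sound`.
-/

set_option autoImplicit false

namespace Cfsg.Agent.TAB.Glue

open Cfsg.Agent.TAB.Eng

/-- a level : the index of the row, its weight, the relation `d * r j + ∑ a * (free rows)`, the flag of the targets -/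
structure Lv where
  j : ℕ
  w : ℕ
  d : ℕ
  a : List ℕ
  tg : Bool

/-- the scalar product -/
noncomputable def dotN (a : List ℕ) : List ℕ → ℕ :=
  List.rec (fun _ => 0) (fun c _ ih f => List.rec 0 (fun x f' _ => Nat.add (Nat.mul c x) (ih f')) f) a

/-- for all `t < d` -/
noncomputable def upto (f : ℕ → Bool) (d : ℕ) : Bool := Nat.rec true (fun t ih => cond (f t) ih false) d

theorem upto_spec {f : ℕ → Bool} {d : ℕ} (h : upto f d = true) : ∀ t < d, f t = true := by
  induction d with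
  | zero => intro t ht; omega
  | succ d ih =>
    have h1 : cond (f d) (upto f d) false = true := h
    cases hf : f d with
    | false => rw [hf] at h1; cases h1
    | true =>
      rw [hf] at h1
      intro t ht
      rcases (Nat.lt_succ_iff.1 ht).eq_or_lt with rfl | h2
      · exact hf
      · exact ih h1 t h2

/-- the new state -/
noncomputable def nxt (A B : Bool) (x : ℕ) (fs : List ℕ) (bad : Bool) (k : List ℕ → Bool → Bool) : Bool :=
  cond A (cond B (k fs bad) (k fs true)) (cond B (k (x :: fs) bad) (k (x :: fs) true))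

theorem nxt_eq (A B : Bool) (x : ℕ) (fs : List ℕ) (bad : Bool) (k : List ℕ → Bool → Bool) :
    nxt A B x fs bad k = k (cond A fs (x :: fs)) (cond B bad true) := by
  cases A <;> cases B <;> rfl

/-- one residue -/
noncomputable def one (e : ℕ) (l : Lv) (bud : ℕ) (fs : List ℕ) (bad : Bool) (k : ℕ → ℕ → List ℕ → Bool → Bool)
    (x : ℕ) : Bool :=
  frc (cond (Nat.ble x (Nat.sub e x)) x (Nat.sub e x)) fun m => frc (Nat.mul l.w (Nat.mul m m)) fun c =>
    cond (Nat.ble c bud) (frc (Nat.sub bud c) fun b =>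
      nxt (Nat.beq l.d 1) (cond l.tg (Nat.beq x 0) true) x fs bad (k x b)) true

/-- **the search over the residues** -/
noncomputable def dfs (e : ℕ) (fin : List (ℕ × ℕ × ℕ) → Bool) (lv : List Lv) :
    ℕ → List ℕ → List (ℕ × ℕ × ℕ) → Bool → Bool :=
  List.rec (fun _ _ xs bad => cond bad (fin xs) true) (fun l _ ih bud fs xs bad =>
    frc (Nat.mod (Nat.sub e (Nat.mod (dotN l.a fs) e)) e) fun s =>
      upto (fun t => frc (Nat.add (Nat.div s l.d) (Nat.mul (Nat.div e l.d) t))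
        (one e l bud fs bad fun x b fs' bad' => ih b fs' ((x, l.w, l.j) :: xs) bad')) l.d) lv

/-- the coefficients with the indices -/
def zc (a F : List ℕ) : List (ℤ × ℕ) := List.zipWith (fun (c : ℕ) j => ((c : ℤ), j)) a F

/-- the relations -/
noncomputable def rels (lv : List Lv) : List ℕ → List (List (ℤ × ℕ)) :=
  List.rec (fun _ => []) (fun l _ ih F => (((l.d : ℤ), l.j) :: zc l.a F) :: ih (cond (Nat.beq l.d 1) F (l.j :: F))) lv

theorem rels_cons (l : Lv) (lv : List Lv) (F : List ℕ) :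
    rels (l :: lv) F = (((l.d : ℤ), l.j) :: zc l.a F) :: rels lv (cond (Nat.beq l.d 1) F (l.j :: F)) := rfl

/-- the value of a combination -/
def ev (y : ℕ → ℤ) (c : List (ℤ × ℕ)) : ℤ := (c.map fun p => p.1 * y p.2).sum

theorem ev_cons (y : ℕ → ℤ) (p : ℤ × ℕ) (c : List (ℤ × ℕ)) : ev y (p :: c) = p.1 * y p.2 + ev y c := by
  simp [ev]

theorem ev_zc {e : ℕ} {y : ℕ → ℤ} (a : List ℕ) {F fs : List ℕ}
    (h : List.Forall₂ (fun j (x : ℕ) => y j ≡ x [ZMOD e]) F fs) : ev y (zc a F) ≡ (dotN a fs : ℕ) [ZMOD e] := by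
  induction a generalizing F fs with
  | nil => exact Int.ModEq.refl _
  | cons c a ih =>
    cases h with
    | nil => exact Int.ModEq.refl _
    | @cons j x F fs h1 h2 =>
      show ev y (((c : ℤ), j) :: zc a F) ≡ ((c * x + dotN a fs : ℕ) : ℤ) [ZMOD e]
      rw [ev_cons]
      push_cast
      exact (h1.mul_left _).add (ih h2)

theorem exists_res {e d : ℕ} (he : 0 < e) (hd : 0 < d) (hde : d ∣ e) {y : ℤ} {u : ℕ} (h : (e : ℤ) ∣ d * y + u) :
    ∃ t < d, (e - u % e) % e / d + e / d * t < e ∧ y ≡ (((e - u % e) % e / d + e / d * t : ℕ) : ℤ) [ZMOD e] := by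
  obtain ⟨g, rfl⟩ := hde
  have hg : 0 < g := Nat.pos_of_mul_pos_left he
  rw [Nat.mul_div_cancel_left _ hd]
  set s := (d * g - u % (d * g)) % (d * g) with hs
  have h1 : s < d * g := Nat.mod_lt _ he
  have h2 : ((d * g : ℕ) : ℤ) ∣ s + u := by
    have h3 := Nat.mod_lt u he
    have h4 : (s + u) % (d * g) = 0 := by
      rw [hs, Nat.mod_add_mod, ← Nat.add_mod_mod, Nat.sub_add_cancel h3.le, Nat.mod_self]
    exact_mod_cast Nat.dvd_of_mod_eq_zero h4
  have h3 : ((d * g : ℕ) : ℤ) ∣ d * y - s := by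
    have := h.sub h2
    rwa [add_sub_add_right_eq_sub] at this
  obtain ⟨k, hk⟩ := h3
  push_cast at hk
  have h4 : (d : ℤ) ∣ s := ⟨y - g * k, by linear_combination -hk⟩
  obtain ⟨b, hb⟩ := Int.natCast_dvd_natCast.1 h4
  have h5 : b < g := Nat.lt_of_mul_lt_mul_left (hb ▸ h1)
  have h6 : y = b + g * k := by
    rw [hb] at hk
    push_cast at hk
    have hd' : (d : ℤ) ≠ 0 := by exact_mod_cast hd.ne'
    exact mul_left_cancel₀ hd' (by linear_combination hk)
  have hd' : (0 : ℤ) < d := by exact_mod_cast hd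
  obtain ⟨t, ht⟩ := Int.eq_ofNat_of_zero_le (Int.emod_nonneg k hd'.ne')
  have h7 : t < d := by
    have := Int.emod_lt_of_pos k hd'
    omega
  refine ⟨t, h7, ?_, ?_⟩
  · rw [hb, Nat.mul_div_cancel_left _ hd]
    calc b + g * t < g + g * t := by omega
      _ = g * (t + 1) := by ring
      _ ≤ g * d := Nat.mul_le_mul_left _ h7
      _ = d * g := mul_comm _ _
  · rw [hb, Nat.mul_div_cancel_left _ hd, h6]
    push_cast
    rw [← ht, Int.modEq_iff_dvd]
    refine ⟨-(k / d), ?_⟩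
    have h8 := Int.emod_add_mul_ediv k d
    linear_combination (g : ℤ) * h8

theorem sq_le_of_res {e x : ℕ} (hx : x < e) {y : ℤ} (h : y ≡ x [ZMOD e]) :
    ((cond (Nat.ble x (Nat.sub e x)) x (Nat.sub e x) : ℕ) : ℤ) * (cond (Nat.ble x (Nat.sub e x)) x (Nat.sub e x) : ℕ) ≤
      y * y := by
  have h0 : ∃ m : ℕ, cond (Nat.ble x (Nat.sub e x)) x (Nat.sub e x) = m ∧ m ≤ x ∧ m + x ≤ e := by
    cases hb : Nat.ble x (Nat.sub e x) with
    | true =>
      have : x ≤ e - x := Nat.le_of_ble_eq_true hb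
      exact ⟨x, rfl, le_rfl, by omega⟩
    | false =>
      have : ¬ x ≤ e - x := fun h1 => Bool.false_ne_true (hb.symm.trans (Nat.ble_eq_true_of_le h1))
      exact ⟨e - x, rfl, by omega, by omega⟩
  obtain ⟨m, h1, h2, h3⟩ := h0
  rw [h1]
  obtain ⟨k, hk⟩ := h.symm.dvd
  have h4 : (m : ℤ) ≤ x := by exact_mod_cast h2
  have h5 : (m : ℤ) + x ≤ e := by exact_mod_cast h3
  have h6 : (0 : ℤ) ≤ m := Int.natCast_nonneg _
  have h7 : (0 : ℤ) ≤ e := Int.natCast_nonneg _
  rcases le_or_gt 0 k with h8 | h8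
  · have h9 : (m : ℤ) ≤ y := by nlinarith [mul_nonneg h7 h8]
    exact mul_le_mul h9 h9 h6 (h6.trans h9)
  · have h9 : (m : ℤ) ≤ -y := by nlinarith [mul_le_mul_of_nonneg_left (Int.le_sub_one_of_lt h8) h7]
    have := mul_le_mul h9 h9 h6 (h6.trans h9)
    rwa [neg_mul_neg] at this

/-- the weighted sum of the squares -/
def wsq (y : ℕ → ℤ) (Z : List (ℕ × ℕ)) : ℤ := (Z.map fun z => (z.1 : ℤ) * (y z.2 * y z.2)).sum

theorem wsq_cons (y : ℕ → ℤ) (z : ℕ × ℕ) (Z : List (ℕ × ℕ)) :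
    wsq y (z :: Z) = z.1 * (y z.2 * y z.2) + wsq y Z := by simp [wsq]

theorem wsq_nonneg (y : ℕ → ℤ) (Z : List (ℕ × ℕ)) : 0 ≤ wsq y Z := by
  induction Z with
  | nil => exact le_rfl
  | cons z Z ih =>
    rw [wsq_cons]
    exact add_nonneg (mul_nonneg (Int.natCast_nonneg _) (mul_self_nonneg _)) ih

/-- the weights and the indices -/
def wj (lv : List Lv) : List (ℕ × ℕ) := lv.map fun l => (l.w, l.j)

theorem dfs_sound {e : ℕ} (he : 0 < e) (y : ℕ → ℤ) (fin : List (ℕ × ℕ × ℕ) → Bool) (lv : List Lv) :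
    ∀ (F : List ℕ) (bud : ℕ) (fs : List ℕ) (xs : List (ℕ × ℕ × ℕ)) (bad : Bool),
      (∀ l ∈ lv, 0 < l.d ∧ l.d ∣ e) → (∀ r ∈ rels lv F, (e : ℤ) ∣ ev y r) → wsq y (wj lv) ≤ bud →
      List.Forall₂ (fun j (x : ℕ) => y j ≡ x [ZMOD e]) F fs → (∀ z ∈ xs, z.1 < e ∧ y z.2.2 ≡ z.1 [ZMOD e]) →
      dfs e fin lv bud fs xs bad = true →
      (bad = false ∧ ∀ l ∈ lv, l.tg = true → (e : ℤ) ∣ y l.j) ∨
        ∃ zs, fin zs = true ∧ (∀ z ∈ zs, z.1 < e ∧ y z.2.2 ≡ z.1 [ZMOD e]) ∧
          zs.map Prod.snd = (wj lv).reverse ++ xs.map Prod.snd := by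
  induction lv with
  | nil =>
    intro F bud fs xs bad _ _ _ _ hx h
    cases bad with
    | false => exact Or.inl ⟨rfl, fun l hl => by cases hl⟩
    | true => exact Or.inr ⟨xs, h, hx, rfl⟩
  | cons l lv ih =>
    intro F bud fs xs bad hd hr hb hF hx h
    have h1 : frc (Nat.mod (Nat.sub e (Nat.mod (dotN l.a fs) e)) e) (fun s =>
      upto (fun t => frc (Nat.add (Nat.div s l.d) (Nat.mul (Nat.div e l.d) t))
        (one e l bud fs bad fun x b fs' bad' => dfs e fin lv b fs' ((x, l.w, l.j) :: xs) bad')) l.d) = true := h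
    rw [frc_eq] at h1
    rw [rels_cons] at hr
    have h2 := hr _ List.mem_cons_self
    rw [ev_cons] at h2
    have h3 : (e : ℤ) ∣ l.d * y l.j + (dotN l.a fs : ℕ) := by
      have h4 := h2.add (ev_zc l.a hF).dvd
      rwa [add_add_sub_cancel] at h4
    obtain ⟨hd1, hd2⟩ := hd l List.mem_cons_self
    obtain ⟨t, ht, h4, h5⟩ := exists_res he hd1 hd2 h3
    have h6 := upto_spec h1 t ht
    rw [frc_eq] at h6
    change one e l bud fs bad _ ((e - dotN l.a fs % e) % e / l.d + e / l.d * t) = true at h6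
    generalize (e - dotN l.a fs % e) % e / l.d + e / l.d * t = x at h4 h5 h6
    rw [one, frc_eq, frc_eq] at h6
    have h7 := sq_le_of_res h4 h5
    generalize cond (Nat.ble x (Nat.sub e x)) x (Nat.sub e x) = m at h6 h7
    have h8 : wsq y (wj (l :: lv)) = l.w * (y l.j * y l.j) + wsq y (wj lv) := wsq_cons y (l.w, l.j) (wj lv)
    have h9 : ((l.w * (m * m) : ℕ) : ℤ) ≤ l.w * (y l.j * y l.j) := by
      push_cast
      exact mul_le_mul_of_nonneg_left h7 (Int.natCast_nonneg _)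
    have h10 := wsq_nonneg y (wj lv)
    have h11 : l.w * (m * m) ≤ bud := by omega
    have h12 : Nat.ble (Nat.mul l.w (Nat.mul m m)) bud = true := Nat.ble_eq_true_of_le h11
    rw [h12, cond_true, frc_eq, nxt_eq] at h6
    have h13 := ih (cond (Nat.beq l.d 1) F (l.j :: F)) (bud - l.w * (m * m)) _ _ _
      (fun l' hl' => hd l' (List.mem_cons_of_mem _ hl')) (fun r hr' => hr r (List.mem_cons_of_mem _ hr'))
      (by omega) (by
        cases Nat.beq l.d 1 with
        | true => exact hF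
        | false => exact List.Forall₂.cons h5 hF) (fun z hz => by
        rcases List.mem_cons.1 hz with rfl | hz
        · exact ⟨h4, h5⟩
        · exact hx z hz) h6
    rcases h13 with ⟨h14, h15⟩ | ⟨zs, h14, h15, h16⟩
    · cases hB : cond l.tg (Nat.beq x 0) true with
      | false => rw [hB] at h14; cases h14
      | true =>
        rw [hB] at h14
        refine Or.inl ⟨h14, fun l' hl' htg => ?_⟩
        rcases List.mem_cons.1 hl' with rfl | hl'
        · rw [htg] at hB
          rw [Nat.eq_of_beq_eq_true hB] at h5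
          exact Int.modEq_zero_iff_dvd.1 h5
        · exact h15 l' hl' htg
    · refine Or.inr ⟨zs, h14, h15, ?_⟩
      rw [h16]
      simp [wj]

/-- **the search over the integers with given residues** -/
noncomputable def lft (e R : ℕ) (fin : ℤ → List (ℤ × ℕ) → Bool) (zs : List (ℕ × ℕ × ℕ)) :
    ℤ → List (ℤ × ℕ) → Bool :=
  List.rec (fun bud c => fin bud c) (fun z _ ih bud c => upto (fun t =>
    frcZ ((z.1 : ℤ) + e * ((t : ℤ) - R)) fun y => frcZ (bud - z.2.1 * (y * y)) fun b =>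
      cond (decide (b < 0)) true (ih b ((z.2.1 * y, z.2.2) :: c))) (2 * R)) zs

/-- the combination with the coefficients `w * y j` -/
def cf (y : ℕ → ℤ) (Z : List (ℕ × ℕ)) : List (ℤ × ℕ) := Z.map fun z => ((z.1 : ℤ) * y z.2, z.2)

theorem lft_sound {e R : ℕ} {B : ℤ} (y : ℕ → ℤ) (fin : ℤ → List (ℤ × ℕ) → Bool) (zs : List (ℕ × ℕ × ℕ)) :
    ∀ (bud : ℤ) (c : List (ℤ × ℕ)), (∀ z ∈ zs, z.1 < e ∧ y z.2.2 ≡ z.1 [ZMOD e]) →
      (∀ z ∈ zs.map Prod.snd, B < z.1 * (((R * e : ℕ) : ℤ) * (R * e : ℕ))) → bud ≤ B →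
      wsq y (zs.map Prod.snd) ≤ bud → lft e R fin zs bud c = true →
      fin (bud - wsq y (zs.map Prod.snd)) ((cf y (zs.map Prod.snd)).reverse ++ c) = true := by
  induction zs with
  | nil =>
    intro bud c _ _ _ _ h
    have h1 : fin bud c = true := h
    simpa [wsq, cf] using h1
  | cons z zs ih =>
    intro bud c hz hB hb hw h
    have h1 : upto (fun t => frcZ ((z.1 : ℤ) + e * ((t : ℤ) - R)) fun y => frcZ (bud - z.2.1 * (y * y)) fun b =>
      cond (decide (b < 0)) true (lft e R fin zs b ((z.2.1 * y, z.2.2) :: c))) (2 * R) = true := h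
    rw [List.map_cons, wsq_cons] at hw
    obtain ⟨h2, h3⟩ := hz z List.mem_cons_self
    have h4 := hB z.2 List.mem_cons_self
    have h5 := wsq_nonneg y (zs.map Prod.snd)
    have h6 : y z.2.2 * y z.2.2 < ((R * e : ℕ) : ℤ) * (R * e : ℕ) :=
      lt_of_mul_lt_mul_left (a := (z.2.1 : ℤ)) (by omega) (Int.natCast_nonneg _)
    have h7 := abs_lt.1 (abs_lt_of_sq_lt_sq (a := y z.2.2) (by rwa [sq, sq]) (Int.natCast_nonneg (R * e)))
    obtain ⟨k, hk⟩ := h3.symm.dvd
    have h8 : (z.1 : ℤ) < e := by exact_mod_cast h2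
    have h9 : (0 : ℤ) ≤ z.1 := Int.natCast_nonneg _
    push_cast at h7
    have h10 : k < R := lt_of_mul_lt_mul_left (a := (e : ℤ)) (by nlinarith [h7.2]) (Int.natCast_nonneg _)
    have h11 : -(R : ℤ) - 1 < k := lt_of_mul_lt_mul_left (a := (e : ℤ)) (by nlinarith [h7.1]) (Int.natCast_nonneg _)
    obtain ⟨t, ht⟩ := Int.eq_ofNat_of_zero_le (show 0 ≤ k + R by omega)
    have h12 := upto_spec h1 t (by omega)
    have h13 : (z.1 : ℤ) + e * ((t : ℤ) - R) = y z.2.2 := by
      rw [← ht]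
      linear_combination -hk
    rw [frcZ_eq, frcZ_eq, h13, decide_eq_false (by omega), cond_false] at h12
    have h14 := ih _ _ (fun z' hz' => hz z' (List.mem_cons_of_mem _ hz'))
      (fun z' hz' => hB z' (List.mem_cons_of_mem _ hz')) (by nlinarith [mul_self_nonneg (y z.2.2)]) (by omega) h12
    rw [List.map_cons, wsq_cons, ← sub_sub]
    simpa [cf] using h14

end Cfsg.Agent.TAB.Glue
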