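import Cfsg.Agent.TAB.Glue.Dfs
import Cfsg.Agent.TAB.Eng.Fin

/-!
# The glue lemma (helper12, TAB)

Orthogonal rows `r j` (not known to be virtual), triangular relations `d * r j + ∑ a * r i` which are virtual.
For an irreducible character `χ` the numbers `⟨r j, χ⟩` satisfy the congruences and Bessel's inequality; the search
`dfs` shows that they are integers.

* `Orth D rows nm`, `gramB`, `orth_of_gramB` : the Gram matrix;
* `okG`, `glue` : the rows of the levels with the flag `tg` are virtual.
-/

set_option autoImplicit false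

namespace Cfsg.Agent.TAB.Glue

open Cfsg Cfsg.Agent.TAB.Eng Cfsg.Agent.Characters Cfsg.Agent.Characters.Core Cfsg.Agent.Characters.Brauer
open Cfsg.Agent.H447.CTab
open scoped ComplexConjugate

universe u

/-! ### The Gram matrix -/

/-- the row `j` -/
noncomputable abbrev rj (rows : List (List ℤ)) (j : ℕ) : ℕ → ℤ := nth (ntd rows [] j)

/-- the rows are orthogonal with the norms `nm` -/
def Orth (D : Dat) (rows : List (List ℤ)) (nm : List ℕ) : Prop :=
  ∀ i < rows.length, ∀ j < rows.length,
    ipF D (rj rows i) (rj rows j) = if i = j then (D.N : ℤ) * ntd nm 0 i else 0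

theorem ipF_comm (D : Dat) (f g : ℕ → ℤ) : ipF D f g = ipF D g f :=
  Finset.sum_congr rfl fun t _ => by rw [mul_comm (f t)]

theorem ip_eq {D : Dat} (hl : D.cntL.length = D.n) (v w : List ℤ) : ip D v w = ipF D (nth v) (nth w) := by
  rw [ip, ipL_eq, hl]
  rfl

/-- the scalar product -/
noncomputable def dz (v : List ℤ) : List ℤ → ℤ :=
  List.rec (fun _ => 0) (fun a _ ih w => List.rec 0 (fun b w' _ => Int.add (Int.mul a b) (ih w')) w) v

/-- the weighted row -/
noncomputable def wv (c : List ℕ) : List ℤ → List ℤ :=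
  List.rec (fun _ => []) (fun x _ ih v => List.rec [] (fun a v' _ => Int.mul (Int.ofNat x) a :: ih v') v) c

theorem dz_wv (c : List ℕ) (v w : List ℤ) : dz (wv c v) w = ipL c v w := by
  induction c generalizing v w with
  | nil => rfl
  | cons x c ih => cases v with
    | nil => rfl
    | cons a v => cases w with
      | nil => rfl
      | cons b w =>
        show (x : ℤ) * a * b + dz (wv c v) w = x * (a * b) + ipL c v w
        rw [ih, mul_assoc]

/-- the check of the Gram matrix; `prev` are the earlier rows -/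
noncomputable def gramB (D : Dat) (rows : List (List ℤ)) : List ℕ → List (List ℤ) → Bool :=
  List.rec (fun _ _ => true) (fun r _ ih nm prev => List.rec false (fun n nm' _ =>
    frcLZ (wv D.cntL r) fun u => cond (decide (dz u r = Int.mul (Int.ofNat D.N) (Int.ofNat n)))
      (cond (allL (fun p => decide (dz u p = 0)) prev) (ih nm' (r :: prev)) false) false) nm) rows

theorem gramB_spec {D : Dat} {rows : List (List ℤ)} : ∀ {nm : List ℕ} {prev : List (List ℤ)},
    gramB D rows nm prev = true → (∀ i < rows.length, ∀ p ∈ prev, ip D (ntd rows [] i) p = 0) ∧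
      ∀ i < rows.length, ip D (ntd rows [] i) (ntd rows [] i) = D.N * ntd nm 0 i ∧
        ∀ j < i, ip D (ntd rows [] i) (ntd rows [] j) = 0 := by
  induction rows with
  | nil => exact fun _ => ⟨fun i hi => absurd hi (Nat.not_lt_zero i), fun i hi => absurd hi (Nat.not_lt_zero i)⟩
  | cons r rows ih =>
    intro nm prev h
    cases nm with
    | nil => cases h
    | cons n nm =>
      have h1 : frcLZ (wv D.cntL r) (fun u => cond (decide (dz u r = Int.mul (Int.ofNat D.N) (Int.ofNat n)))
        (cond (allL (fun p => decide (dz u p = 0)) prev) (gramB D rows nm (r :: prev)) false) false) = true := h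
      rw [frcLZ_eq] at h1
      simp only [dz_wv, Bool.cond_eq_ite, Bool.if_false_right, Bool.and_eq_true, decide_eq_true_eq] at h1
      obtain ⟨h2, h3, h4⟩ := h1
      obtain ⟨h5, h6⟩ := ih h4
      refine ⟨fun i hi p hp => ?_, fun i hi => ?_⟩
      · cases i with
        | zero => exact of_decide_eq_true (allL_spec h3 p hp)
        | succ i => exact h5 i (Nat.lt_of_succ_lt_succ hi) p (List.mem_cons_of_mem _ hp)
      · cases i with
        | zero => exact ⟨h2, fun j hj => by omega⟩
        | succ i =>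
          refine ⟨(h6 i (Nat.lt_of_succ_lt_succ hi)).1, fun j hj => ?_⟩
          cases j with
          | zero => exact h5 i (Nat.lt_of_succ_lt_succ hi) r List.mem_cons_self
          | succ j => exact (h6 i (Nat.lt_of_succ_lt_succ hi)).2 j (Nat.lt_of_succ_lt_succ hj)

theorem orth_of_gramB {D : Dat} (hl : D.cntL.length = D.n) {rows : List (List ℤ)} {nm : List ℕ}
    (h : gramB D rows nm [] = true) : Orth D rows nm := by
  intro i hi j hj
  obtain ⟨-, h1⟩ := gramB_spec h
  rcases lt_trichotomy i j with h2 | rfl | h2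
  · rw [if_neg h2.ne, ipF_comm, ← ip_eq hl]
    exact (h1 j hj).2 i h2
  · rw [if_pos rfl, ← ip_eq hl]
    exact (h1 i hi).1
  · rw [if_neg h2.ne', ← ip_eq hl]
    exact (h1 i hi).2 j h2

theorem ipF_comb_cons (D : Dat) (rows : List (List ℤ)) (p : ℤ × ℕ) (c : List (ℤ × ℕ)) (g : ℕ → ℤ) :
    ipF D (nth (comb rows (p :: c))) g = p.1 * ipF D (rj rows p.2) g + ipF D (nth (comb rows c)) g := by
  simp only [ipF, nth_comb_cons, Finset.mul_sum, ← Finset.sum_add_distrib]
  exact Finset.sum_congr rfl fun t _ => by ring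

theorem ipF_comb_nil (D : Dat) (rows : List (List ℤ)) (g : ℕ → ℤ) : ipF D (nth (comb rows [])) g = 0 :=
  Finset.sum_eq_zero fun t _ => by
    show _ * ((0 : ℤ) * _) = 0
    rw [zero_mul, mul_zero]

section gram

variable {D : Dat} {rows : List (List ℤ)} {nm : List ℕ}

theorem ipF_cf_zero (hO : Orth D rows nm) (y : ℕ → ℤ) {j : ℕ} (hj : j < rows.length) :
    ∀ Z : List (ℕ × ℕ), (∀ z ∈ Z, z.2 < rows.length) → j ∉ Z.map Prod.snd →
      ipF D (nth (comb rows (cf y Z))) (rj rows j) = 0
  | [], _, _ => ipF_comb_nil _ _ _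
  | z :: Z, h1, h2 => by
    rw [List.map_cons, List.mem_cons, not_or] at h2
    show ipF D (nth (comb rows ((z.1 * y z.2, z.2) :: cf y Z))) _ = 0
    rw [ipF_comb_cons, ipF_cf_zero hO y hj Z (fun x hx => h1 x (List.mem_cons_of_mem _ hx)) h2.2,
      hO _ (h1 z List.mem_cons_self) _ hj, if_neg (Ne.symm h2.1), mul_zero, add_zero]

theorem ipF_cf_self (hO : Orth D rows nm) (y : ℕ → ℤ) {L : ℕ} :
    ∀ Z : List (ℕ × ℕ), (∀ z ∈ Z, z.2 < rows.length ∧ z.1 * ntd nm 0 z.2 = L) → (Z.map Prod.snd).Nodup →
      ipF D (nth (comb rows (cf y Z))) (nth (comb rows (cf y Z))) = D.N * (L * wsq y Z)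
  | [], _, _ => by
    rw [show cf y [] = [] from rfl, ipF_comb_nil]
    simp [wsq]
  | z :: Z, h1, h2 => by
    rw [List.map_cons, List.nodup_cons] at h2
    have h3 := ipF_cf_self hO y Z (fun x hx => h1 x (List.mem_cons_of_mem _ hx)) h2.2
    obtain ⟨h4, h5⟩ := h1 z List.mem_cons_self
    have h6 := ipF_cf_zero hO y h4 Z (fun x hx => (h1 x (List.mem_cons_of_mem _ hx)).1) h2.1
    have h7 : ∀ g, ipF D (nth (comb rows (cf y (z :: Z)))) g =
        z.1 * y z.2 * ipF D (rj rows z.2) g + ipF D (nth (comb rows (cf y Z))) g :=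
      ipF_comb_cons D rows (z.1 * y z.2, z.2) (cf y Z)
    have h8 := h7 (rj rows z.2)
    have h9 := h7 (nth (comb rows (cf y Z)))
    rw [h6, hO _ h4 _ h4, if_pos rfl, ipF_comm] at h8
    rw [h3, ipF_comm D (rj rows z.2), h6, ipF_comm] at h9
    rw [h7, h8, h9, wsq_cons, ← h5]
    push_cast
    ring

end gram

theorem ev_cf (y : ℕ → ℤ) (Z : List (ℕ × ℕ)) : ev y (cf y Z) = wsq y Z := by
  simp only [ev, cf, wsq, List.map_map, Function.comp_def, mul_assoc]

theorem nth_comb_ev (rows : List (List ℤ)) (c : List (ℤ × ℕ)) (t : ℕ) :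
    nth (comb rows c) t = ev (fun j => rj rows j t) c := by
  induction c with
  | nil => rfl
  | cons p c ih => rw [nth_comb_cons, ev_cons, ih]

theorem ev_cf_comm (y y' : ℕ → ℤ) (Z : List (ℕ × ℕ)) : ev y (cf y' Z) = ev y' (cf y Z) := by
  simp only [ev, cf, List.map_map, Function.comp_def, mul_assoc, mul_comm (y _)]

theorem rels_idx (lv : List Lv) : ∀ F : List ℕ, ∀ x ∈ rels lv F, ∀ p ∈ x, p.2 ∈ F ∨ p.2 ∈ lv.map Lv.j := by
  induction lv with
  | nil => intro F x hx; cases hx
  | cons l lv ih =>
    intro F x hx p hp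
    rw [rels_cons] at hx
    rcases List.mem_cons.1 hx with rfl | hx
    · rcases List.mem_cons.1 hp with rfl | hp
      · exact Or.inr List.mem_cons_self
      · obtain ⟨i, hi, rfl⟩ := List.getElem_of_mem hp
        simp only [zc, List.getElem_zipWith]
        exact Or.inl (List.getElem_mem _)
    · rcases ih _ x hx p hp with h | h
      · cases hb : Nat.beq l.d 1 with
        | true => rw [hb] at h; exact Or.inl h
        | false =>
          rw [hb] at h
          rcases List.mem_cons.1 h with h | h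
          · exact Or.inr (h ▸ List.mem_cons_self)
          · exact Or.inl h
      · exact Or.inr (List.mem_cons_of_mem _ h)

variable {G : Type u} [Group G] {D : Dat} {T : TD G D} {rows : List (List ℤ)}

theorem virt_mul_comb {P : ℤ} {c : List (ℤ × ℕ)} (h : ∀ p ∈ c, Virt T fun t => P * rj rows p.2 t) :
    Virt T fun t => P * nth (comb rows c) t := by
  induction c with
  | nil => exact (Virt.const 0).congr fun t _ => (mul_zero _).symm
  | cons p c ih =>
    refine (((h p List.mem_cons_self).smul p.1).add (ih fun q hq => h q (List.mem_cons_of_mem _ hq))).congr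
      fun t _ => ?_
    rw [nth_comb_cons]
    ring

/-- the product of the `d` kills everything -/
theorem virt_prod (lv : List Lv) : ∀ (F : List ℕ) (P : ℕ), (∀ j ∈ F, Virt T fun t => P * rj rows j t) →
    (∀ x ∈ rels lv F, Virt T (nth (comb rows x))) →
    ∀ l ∈ lv, Virt T fun t => ((P * (lv.map Lv.d).prod : ℕ) : ℤ) * rj rows l.j t := by
  induction lv with
  | nil => intro F P _ _ l hl; cases hl
  | cons l lv ih =>
    intro F P hF hv
    rw [rels_cons] at hv
    have h1 : Virt T fun t => ((P * l.d : ℕ) : ℤ) * rj rows l.j t := by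
      have h2 := virt_mul_comb (T := T) (rows := rows) (P := P) (c := zc l.a F) fun p hp => hF _ (by
        obtain ⟨i, hi, rfl⟩ := List.getElem_of_mem hp
        simp only [zc, List.getElem_zipWith]
        exact List.getElem_mem _)
      refine (((hv _ List.mem_cons_self).smul P).add (h2.smul (-1))).congr fun t _ => ?_
      rw [nth_comb_cons]
      push_cast
      ring
    intro l' hl'
    rw [List.map_cons, List.prod_cons, ← mul_assoc]
    rcases List.mem_cons.1 hl' with rfl | hl'
    · refine (h1.smul ((lv.map Lv.d).prod : ℕ)).congr fun t _ => ?_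
      push_cast
      ring
    · refine ih _ _ (fun j hj => ?_) (fun x hx => hv x (List.mem_cons_of_mem _ hx)) l' hl'
      have h3 : j = l.j ∨ j ∈ F := by
        cases hb : Nat.beq l.d 1 with
        | true => rw [hb] at hj; exact Or.inr hj
        | false => rw [hb] at hj; exact List.mem_cons.1 hj
      rcases h3 with rfl | h3
      · exact h1
      · refine ((hF j h3).smul l.d).congr fun t _ => ?_
        push_cast
        ring

theorem ev_inner [Fintype G] {e : ℕ} {y : ℕ → ℤ} {ψ : G → ℂ} {c : List (ℤ × ℕ)}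
    (h : ∀ p ∈ c, (y p.2 : ℂ) = e * classInner (fn T (ntd rows [] p.2)) ψ) :
    (ev y c : ℂ) = e * classInner (fn T (comb rows c)) ψ := by
  induction c with
  | nil =>
    have h1 : fn T (comb rows []) = 0 := funext fun g => Int.cast_zero
    rw [h1, classInner_zero_left, mul_zero]
    exact Int.cast_zero
  | cons p c ih =>
    have h1 : fn T (comb rows (p :: c)) = (p.1 : ℂ) • fn T (ntd rows [] p.2) + fn T (comb rows c) := funext fun g => by
      simp only [fn, nth_comb_cons, Pi.add_apply, Pi.smul_apply, smul_eq_mul, Int.cast_add, Int.cast_mul]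
    rw [h1, classInner_add_left, classInner_smul_left, ev_cons, Int.cast_add, Int.cast_mul, h p List.mem_cons_self,
      ih fun q hq => h q (List.mem_cons_of_mem _ hq)]
    ring

/-- the final test : `P` is `L * e` times the projection of the character, `b` the rest of the budget -/
noncomputable def fin2 (D : Dat) (rows : List (List ℤ)) (M : ℕ) (reg : Bool) (b : ℤ) (c : List (ℤ × ℕ)) : Bool :=
  frcLZ (comb rows c) fun P =>
    (reg && (decide (nth P 0 ≤ 0) || decide (nth P 0 % M ≠ 0) || decide ((D.N : ℤ) % (nth P 0 / M) ≠ 0))) ||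
      (decide (b = 0) && (List.range D.n).any fun t => decide (0 < D.cnt t) && decide (nth P t % M ≠ 0))

/-- the rows of the levels give the regular character -/
noncomputable def okReg (D : Dat) (rows : List (List ℤ)) (lv : List Lv) (L : ℕ) : Bool :=
  decide (0 < D.n) && D.ord 0 == 1 && decide (0 < D.cnt 0) &&
    frcLZ (comb rows (cf (fun j => rj rows j 0) (wj lv))) fun P =>
      allL (fun t => decide (nth P t = if t = 0 then (L * D.N : ℤ) else 0)) (List.range D.n)

/-- **the check** -/
noncomputable def okG (D : Dat) (rows : List (List ℤ)) (nm : List ℕ) (lv : List Lv) (L R : ℕ) (reg : Bool) : Bool :=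
  frc (lv.map Lv.d).prod fun e => frc (L * e * e) fun B => frc rows.length fun k =>
    decide (0 < e) && decide (0 < L) && decide (lv.map Lv.j).Nodup &&
    allL (fun l => decide (l.j < k) && l.w * ntd nm 0 l.j == L && decide (L < l.w * (R * R))) lv &&
    (!reg || okReg D rows lv L) &&
    dfs e (fun zs => lft e R (fin2 D rows (L * e) reg) zs B []) lv B [] [] false

/-- **The glue lemma.** -/
theorem glue [Finite G] (hm : T.Mass) {nm : List ℕ} (hO : Orth D rows nm) {lv : List Lv} {L R : ℕ} {reg : Bool}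
    (hc : okG D rows nm lv L R reg = true) (hv : ∀ x ∈ rels lv [], Virt T (nth (comb rows x))) :
    ∀ l ∈ lv, l.tg = true → Virt T (nth (ntd rows [] l.j)) := by
  classical
  have := Fintype.ofFinite G
  have he := virt_prod lv [] 1 (fun j hj => by cases hj) hv
  rw [okG, frc_eq, frc_eq, frc_eq] at hc
  simp only [Bool.and_eq_true, decide_eq_true_eq, one_mul] at hc he
  obtain ⟨⟨⟨⟨⟨h0, hL⟩, hnd⟩, hlv⟩, hreg⟩, hdfs⟩ := hc
  have hdv : ∀ l ∈ lv, l.d ∣ (lv.map Lv.d).prod := fun l hl => List.dvd_prod (List.mem_map_of_mem hl)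
  generalize (lv.map Lv.d).prod = e at *
  have hlv' : ∀ z ∈ wj lv, (z.2 < rows.length ∧ z.1 * ntd nm 0 z.2 = L) ∧ L < z.1 * (R * R) := fun z hz => by
    obtain ⟨l, hl, rfl⟩ := List.mem_map.1 hz
    simpa only [Bool.and_eq_true, decide_eq_true_eq, beq_iff_eq] using allL_spec hlv l hl
  have hsnd : (wj lv).map Prod.snd = lv.map Lv.j := by simp [wj]
  have he0 : (e : ℂ) ≠ 0 := by exact_mod_cast h0.ne'
  have hL0 : (L : ℂ) ≠ 0 := by exact_mod_cast hL.ne'
  intro l0 hl0 htg
  refine isGeneralizedCharacter_of_int (fun g c => by rw [T.conj]) fun χ hχ => ?_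
  have h1 : ∀ j, ∃ z : ℤ, j ∈ lv.map Lv.j → (z : ℂ) = e * classInner (fn T (ntd rows [] j)) χ := fun j => by
    by_cases hj : j ∈ lv.map Lv.j
    · obtain ⟨l, hl, rfl⟩ := List.mem_map.1 hj
      refine ⟨mu (he l hl) ⟨χ, hχ⟩, fun _ => ?_⟩
      refine (inner_mu (he l hl) ⟨χ, hχ⟩).symm.trans ?_
      rw [← classInner_smul_left]
      congr 1
      funext g
      simp
    · exact ⟨0, fun h => absurd h hj⟩
  choose y hy using h1
  have hcf : ∀ (y' : ℕ → ℤ), ∀ p ∈ cf y' (wj lv), (y p.2 : ℂ) = e * classInner (fn T (ntd rows [] p.2)) χ :=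
    fun y' p hp => by
      obtain ⟨z, hz, rfl⟩ := List.mem_map.1 hp
      exact hy _ (hsnd ▸ List.mem_map_of_mem hz)
  have h2 := ev_inner (hcf y)
  rw [ev_cf] at h2
  have h3 : classInner (fn T (comb rows (cf y (wj lv)))) (fn T (comb rows (cf y (wj lv)))) = _ :=
    inner_of_ipF hm (ipF_cf_self hO y (wj lv) (fun z hz => (hlv' z hz).1) (hsnd ▸ hnd))
  have h4 : classInner (((L * e : ℕ) : ℂ) • χ - fn T (comb rows (cf y (wj lv))))
      (((L * e : ℕ) : ℂ) • χ - fn T (comb rows (cf y (wj lv)))) = ((L * (L * e * e - wsq y (wj lv)) : ℤ) : ℂ) := by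
    have h5 := congrArg conj h2
    rw [map_mul, classInner_conj_symm, map_intCast, map_natCast] at h5
    rw [classInner_sub_left, classInner_sub_right, classInner_sub_right, classInner_smul_left, classInner_smul_left,
      classInner_smul_right, classInner_smul_right, classInner_irr_self hχ, h3, map_natCast]
    push_cast
    linear_combination (L : ℂ) * h2 + (L : ℂ) * h5
  have h5 : wsq y (wj lv) ≤ (L * e * e : ℕ) := by
    rw [classInner_self_eq_ofReal] at h4
    have h6 : (0 : ℝ) ≤ ((L * (L * e * e - wsq y (wj lv)) : ℤ) : ℝ) := by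
      have h7 := Complex.ofReal_injective (h4.trans (Complex.ofReal_intCast _).symm)
      rw [← h7]
      exact mul_nonneg (inv_nonneg.2 (Nat.cast_nonneg _)) (Finset.sum_nonneg fun g _ => Complex.normSq_nonneg _)
    have h7 : (0 : ℤ) ≤ L * (L * e * e - wsq y (wj lv)) := by exact_mod_cast h6
    have h8 := nonneg_of_mul_nonneg_right h7 (by exact_mod_cast hL)
    push_cast
    omega
  rcases dfs_sound h0 y _ lv [] _ [] [] false (fun l hl => ⟨Nat.pos_of_dvd_of_pos (hdv l hl) h0, hdv l hl⟩)
    (fun x hx => by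
      have h6 := ev_inner (T := T) (rows := rows) (c := x) fun p hp =>
        hy _ ((rels_idx lv [] x hx p hp).resolve_left List.not_mem_nil)
      rw [show classInner (fn T (comb rows x)) χ = _ from inner_mu (hv x hx) ⟨χ, hχ⟩] at h6
      exact ⟨_, by exact_mod_cast h6⟩) h5 List.Forall₂.nil (fun z hz => by cases hz) hdfs with ⟨-, h6⟩ | ⟨zs, h6, h7, h8⟩
  · obtain ⟨k, hk⟩ := h6 l0 hl0 htg
    refine ⟨k, mul_left_cancel₀ he0 ?_⟩
    rw [← hy _ (List.mem_map_of_mem hl0), hk, Int.cast_mul, Int.cast_natCast]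
  exfalso
  rw [List.map_nil, List.append_nil] at h8
  have h9 : wsq y (wj lv).reverse = wsq y (wj lv) := by rw [wsq, List.map_reverse, List.sum_reverse, wsq]
  have h10 := lft_sound (B := (L * e * e : ℕ)) y _ zs _ _ h7 (fun z hz => by
    rw [h8, List.mem_reverse] at hz
    have h11 := Nat.mul_lt_mul_of_pos_right (hlv' z hz).2 (Nat.mul_pos h0 h0)
    have h12 : L * e * e < z.1 * ((R * e) * (R * e)) := by
      calc L * e * e = L * (e * e) := mul_assoc _ _ _
        _ < _ := h11
        _ = _ := by ring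
    exact_mod_cast h12) le_rfl (by rw [h8, h9]; exact h5) h6
  rw [h8, h9, List.append_nil, show (cf y (wj lv).reverse).reverse = cf y (wj lv) by simp [cf], fin2, frcLZ_eq] at h10
  simp only [Bool.or_eq_true, Bool.and_eq_true, decide_eq_true_eq, List.any_eq_true, List.mem_range] at h10
  rcases h10 with ⟨h11, h12⟩ | ⟨h11, t, ht, h12, h13⟩
  · rw [h11, Bool.not_true, Bool.false_or, okReg, frcLZ_eq] at hreg
    simp only [Bool.and_eq_true, decide_eq_true_eq, beq_iff_eq] at hreg
    obtain ⟨⟨⟨a1, a2⟩, a3⟩, a4⟩ := hreg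
    obtain ⟨d, hd, hd1, hd2⟩ := degree_dvd (⟨χ, hχ⟩ : IrrCharacter G)
    have h13 := ev_inner (hcf fun j => rj rows j 0)
    have h14 : ∀ g, fn T (comb rows (cf (fun j => rj rows j 0) (wj lv))) g =
        if g = 1 then (L * Nat.card G : ℂ) else 0 := fun g => by
      rw [fn, of_decide_eq_true (allL_spec a4 _ (List.mem_range.2 (T.lt g))), hm.1]
      simp only [TD.ty_eq_zero hm a1 a2 a3]
      split_ifs <;> simp
    rw [classInner_def, Finset.sum_eq_single 1 (fun g _ hg => by rw [h14, if_neg hg, zero_mul])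
      (fun h => absurd (Finset.mem_univ _) h), h14, if_pos rfl, show χ 1 = d from hd1, map_natCast, ev_cf_comm,
      ← nth_comb_ev] at h13
    have h15 : nth (comb rows (cf y (wj lv))) 0 = (L * e : ℕ) * d := by
      have h16 : (Nat.card G : ℂ) ≠ 0 := card_ne_zero_complex
      have h17 : ((nth (comb rows (cf y (wj lv))) 0 : ℤ) : ℂ) = (((L * e : ℕ) * d : ℤ) : ℂ) := by
        rw [h13]
        push_cast
        field_simp
      exact_mod_cast h17
    have h16 : (0 : ℤ) < (L * e : ℕ) := by exact_mod_cast Nat.mul_pos hL h0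
    rw [h15, Int.mul_emod_right, Int.mul_ediv_cancel_left _ h16.ne', ← hm.1] at h12
    rcases h12 with (h12 | h12) | h12
    · exact absurd (mul_pos h16 (by exact_mod_cast hd)) (not_lt.2 h12)
    · exact h12 rfl
    · exact h12 (Int.emod_eq_zero_of_dvd (by exact_mod_cast hd2))
  · push_cast at h11
    rw [h11, mul_zero, Int.cast_zero] at h4
    have h14 := classInner_self_eq_zero h4
    rw [← hm.2 t ht] at h12
    obtain ⟨⟨g, rfl⟩⟩ := (Nat.card_pos_iff.1 h12).1
    have h15 := congrFun h14 g
    rw [Pi.sub_apply, Pi.smul_apply, smul_eq_mul, Pi.zero_apply, sub_eq_zero] at h15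
    obtain ⟨k, hk⟩ := GaloisBasic.exists_int_of_isIntegral (GaloisBasic.isIntegral_apply (isIrr_isCharacter hχ) g)
      ⟨(nth (comb rows (cf y (wj lv))) (T.ty g) : ℚ) / (L * e), by
        push_cast at h15 ⊢
        rw [eq_div_iff (mul_ne_zero hL0 he0), mul_comm]
        exact h15⟩
    rw [hk] at h15
    have h16 : nth (comb rows (cf y (wj lv))) (T.ty g) = (L * e : ℕ) * k := by
      have h17 : ((nth (comb rows (cf y (wj lv))) (T.ty g) : ℤ) : ℂ) = (((L * e : ℕ) * k : ℤ) : ℂ) := by
        push_cast at h15 ⊢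
        exact h15.symm
      exact_mod_cast h17
    exact h13 (by rw [h16, Int.mul_emod_right])

end Cfsg.Agent.TAB.Glue
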